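import Cfsg.Agent.H84.TwF4Cover
import Cfsg.Agent.H84.TitsLink
import Cfsg.Agent.H210.TC.Row

/-!
# S2464 (S2452): `²F₄(q)` and the Tits group (helper110)

* `raw_iso2F4` : `²F₄(q)`, `q = 2 ^ (2m+1) ≥ 8`: a class of elements of order dividing `5 (q - 1)`, prime to six;
* `row3_isoTits` : the Tits group, order 5.
-/

set_option autoImplicit false

namespace Cfsg.Agent.H110.TC6

theorem cop_six (m : ℕ) : Nat.Coprime (5 * (2 ^ (2 * m + 1) - 1)) 6 := by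
  have h1 : 1 ≤ 2 ^ (2 * m) := Nat.one_le_two_pow
  have h4 : 2 ^ (2 * m) % 3 = 1 := by
    rw [pow_mul, Nat.pow_mod]
    norm_num
  refine Nat.Coprime.mul_left (by norm_num) ?_
  rw [show (6 : ℕ) = 2 * 3 by norm_num, pow_succ]
  generalize 2 ^ (2 * m) = a at h1 h4 ⊢
  refine Nat.Coprime.mul_right ?_ ?_
  · rw [Nat.coprime_comm, Nat.Prime.coprime_iff_not_dvd Nat.prime_two]; omega
  · rw [Nat.coprime_comm, Nat.Prime.coprime_iff_not_dvd Nat.prime_three]; omega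

section Main

open Cfsg.Agent.KFacts.TwF4 Cfsg.Agent.H84.GaussTwF4
open Cfsg.Agent.KFacts.TwF4.Inst Cfsg.Agent.ChevalleyStructure.TwF4.TwistedFix
open Cfsg.Lie Cfsg.Agent.H84.TwF4Cover

/-- `²F₄(q)`, `q ≥ 8` -/
theorem raw_2f4 {K : Type*} [Field K] [Fintype K] {m : ℕ} (hm : 1 ≤ m) (hK : Fintype.card K = 2 ^ (2 * m + 1)) :
    ∃ x : ↥(twistedF4 K (2 ^ m)), Nat.Coprime (orderOf x) 6 ∧ ∀ g : ↥(twistedF4 K (2 ^ m)), g ≠ 1 →
      ∃ u v : ↥(twistedF4 K (2 ^ m)), g = (u * x * u⁻¹) * (v * x * v⁻¹) := by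
  have hchar := Cfsg.Agent.ChevalleyStructure.TwF4.Twisted.charP_two hK
  obtain ⟨φ, hφ⟩ := exists_rln hK
  have hfin : Finite (Matrix.GeneralLinearGroup chevF4.Idx K) := inferInstance
  have hq : 2 ^ 3 ≤ 2 ^ (2 * m + 1) := Nat.pow_le_pow_right (by norm_num) (by omega)
  have hcard : Nat.card Kˣ = 2 ^ (2 * m + 1) - 1 := by rw [Nat.card_units, Nat.card_eq_fintype_card, hK]
  obtain ⟨s, hs, hs5, hcov⟩ := LL_cover (full hK hφ) (k := 2 * m + 1) (by omega)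
    (by rw [Nat.card_eq_fintype_card, hK])
  obtain ⟨d, hd⟩ : ∃ d : Kˣ, d ≠ 1 := by
    classical
    have h1 : 1 < Fintype.card Kˣ := by
      rw [Fintype.card_units, hK]
      omega
    exact Fintype.exists_ne_of_one_lt_card h1 1
  have hd5 : d ^ 5 ≠ 1 := by
    intro h
    have h1 := orderOf_dvd_of_pow_eq_one h
    have h2 := orderOf_dvd_natCard d
    rw [hcard] at h2
    rcases (Nat.dvd_prime (by norm_num : Nat.Prime 5)).1 h1 with h3 | h3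
    · exact hd (orderOf_eq_one_iff.1 h3)
    · rw [h3] at h2
      exact five_not_dvd m h2
  refine ⟨s * (full hK hφ).h 1 d, ?_, fun g hg => cover hs hs5 hcov hd5 hg⟩
  have h1 : (s * (full hK hφ).h 1 d) ^ (5 * (2 ^ (2 * m + 1) - 1)) = 1 := by
    have hc : Commute s ((full hK hφ).h 1 d) := (h_comm_LL d hs).symm
    rw [hc.mul_pow, pow_mul, hs5, one_pow, one_mul, h_pow', mul_comm, pow_mul, ← hcard, pow_card_eq_one', one_pow,
      (full hK hφ).h_one]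
  exact (cop_six m).coprime_dvd_left (orderOf_dvd_of_pow_eq_one h1)

theorem raw_transfer {G M : Type*} [Group G] [Group M] (e : M ≃* G)
    (h : ∃ x : G, Nat.Coprime (orderOf x) 6 ∧ ∀ g : G, g ≠ 1 → ∃ u v : G, g = (u * x * u⁻¹) * (v * x * v⁻¹)) :
    ∃ x : M, Nat.Coprime (orderOf x) 6 ∧ ∀ g : M, g ≠ 1 → ∃ u v : M, g = (u * x * u⁻¹) * (v * x * v⁻¹) := by
  obtain ⟨x, hx6, h⟩ := h
  have eo : ∀ z : G, orderOf (e.symm z) = orderOf z := fun z =>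
    orderOf_injective (e.symm : G →* M) e.symm.injective z
  refine ⟨e.symm x, by rwa [eo], fun g hg => ?_⟩
  obtain ⟨u, v, e'⟩ := h (e g) (by
    intro h1
    exact hg (e.injective (by rw [h1, map_one])))
  refine ⟨e.symm u, e.symm v, e.injective ?_⟩
  rw [e']
  simp

/-- **`²F₄(q)`** -/
theorem raw_iso2F4 {M : Type*} [Group M] (h : Cfsg.Lie.Iso2F4 M) :
    ∃ x : M, Nat.Coprime (orderOf x) 6 ∧ ∀ g : M, g ≠ 1 → ∃ u v : M, g = (u * x * u⁻¹) * (v * x * v⁻¹) := by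
  obtain ⟨K, _, _, m, hm, hK, ⟨f⟩⟩ := h
  exact raw_transfer f (raw_2f4 hm hK)

/-- **`²F₄(q)`**, the form of S2464 -/
theorem six_iso2F4 {M : Type*} [Group M] (h : Cfsg.Lie.Iso2F4 M) :
    ∃ x y : M, Nat.Coprime (orderOf x) 6 ∧ Nat.Coprime (orderOf y) 6 ∧
      ∀ g : M, g ≠ 1 → ∃ u v : M, g = (u * x * u⁻¹) * (v * y * v⁻¹) := by
  obtain ⟨x, hx, hc⟩ := raw_iso2F4 h
  exact ⟨x, x, hx, hx, hc⟩

end Main

section Tits

open Cfsg.Agent.ChevalleyStructure.Tits.Pack Cfsg.Agent.ChevalleyStructure.Tits.Data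
  Cfsg.Agent.ChevalleyStructure.Tits.Cert Cfsg.Agent.ChevalleyStructure.Tits.Rank2
  Cfsg.Agent.ChevalleyStructure.Tits.Sat Cfsg.Agent.ChevalleyStructure.Tits.Final
  Cfsg.Agent.ChevalleyStructure.Tits.Mat Cfsg.Agent.ChevalleyStructure.Tits.Order
  Cfsg.Agent.ChevalleyStructure.Tits.Table Cfsg.Agent.ChevalleyStructure.Tits.Main
open Cfsg.Agent.H246.TitsComp hiding go go_ok go_zero go_succ_even go_succ_odd sound
open Cfsg.Agent.H84.TitsCovData Cfsg.Agent.H84.TitsCovChk Cfsg.Agent.H84.TitsCov Cfsg.Agent.H84.TitsConj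
open Cfsg.Agent.H210.TC

theorem tits_aux (K : Subgroup (Matrix.GeneralLinearGroup I52 (ZMod 2))) (hK : K = H0) (hF : ∀ t ∈ K, t ≠ 1 → Form t) :
    Row3 (commutator K) := by
  subst hK
  obtain ⟨χ, h0, h1⟩ := exists_chi
  have hm := mem_commutator_iff χ (h1 7 (by norm_num) (by norm_num))
  have hf1 : f1 ∈ commutator H0 := (hm f1).2 (O5_sign χ O5_f1)
  have : Fact (Nat.Prime 5) := ⟨by norm_num⟩
  have h2 : orderOf (⟨f1, hf1⟩ : commutator H0) = 5 := by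
    rw [← Subgroup.orderOf_coe]
    exact orderOf_eq_prime O5_f1.1 O5_f1.2
  refine Row3.of_sq (x := ⟨f1, hf1⟩) (by rw [h2]; norm_num) (by rw [h2]; norm_num) ?_
  intro g hg
  have h3 : ((g : H0) : Matrix.GeneralLinearGroup I52 (ZMod 2)) ≠ 1 := fun h => hg (Subtype.ext (Subtype.ext h))
  obtain ⟨a, ha, b, hb, h⟩ := cover_H0 g.2 (hF _ (g : H0).2 h3)
  exact ⟨⟨a, ha⟩, ⟨b, hb⟩, Subtype.ext h⟩

theorem row3_tits : Row3 Cfsg.Lie.TitsGroup := by
  obtain ⟨φ, hφ⟩ := Cfsg.Agent.ChevalleyStructure.TwF4.TwistedFix.exists_rln Cfsg.Agent.H84.TitsLink.hK0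
  refine tits_aux T0 T0_eq_H0 ?_
  intro t ht ht1
  obtain ⟨k, w, hw, v, hv, h⟩ := Cfsg.Agent.H84.TitsLink.form_of hφ (t := ⟨t, ht⟩) (fun h => ht1 (congrArg Subtype.val h))
  have hk : Cfsg.Agent.H84.TitsLink.cg k ∈ H0 := by rw [← T0_eq_H0]; exact k.2
  exact ⟨Cfsg.Agent.H84.TitsLink.cg k, hk, w, hw, v, hv, h⟩

theorem row3_transfer {Γ : Type*} [Group Γ] (K : Subgroup Γ) {M : Type*} [Group M]
    (f : M ≃* commutator K) (h : Row3 (commutator K)) : Row3 M := h.of_equiv f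

/-- **the Tits group** -/
theorem row3_isoTits {M : Type*} [Group M] (h : Cfsg.Lie.IsoTits M) : Row3 M := by
  obtain ⟨f⟩ : Nonempty (M ≃* Cfsg.Lie.TitsGroup) := h
  exact row3_transfer (Cfsg.Lie.twistedF4 (ZMod 2) 1) f row3_tits

/-- **the Tits group**, the form of S2464 -/
theorem six_isoTits {M : Type*} [Group M] (h : Cfsg.Lie.IsoTits M) :
    ∃ x y : M, Nat.Coprime (orderOf x) 6 ∧ Nat.Coprime (orderOf y) 6 ∧
      ∀ g : M, g ≠ 1 → ∃ u v : M, g = (u * x * u⁻¹) * (v * y * v⁻¹) :=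
  (row3_isoTits h).s2464

end Tits

end Cfsg.Agent.H110.TC6
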